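import Mathlib
import Cfsg.Agent.Lib.Helper95.BRA.Defs
import Cfsg.Agent.Lib.Helper74.FrobSchur
import Cfsg.Agent.Lib.Helper74.CharSums
import Cfsg.Agent.Lib.Helper3.CharCore

/-!
# BRA (S4484), package [Mat]: a unitary matrix representation affording a nonprincipal irreducible
character has no nonzero fixed vector
-/

set_option autoImplicit false

open scoped Matrix

namespace Cfsg.Agent.Lib.Helper8.BRA

open Cfsg Cfsg.Agent.Lib.Helper74.Jordan

universe u

/-- [Mat] -/
theorem pkgMat : Cfsg.Agent.Lib.Helper95.BRA.PkgMat.{u} := by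
  intro G _ _ χ hχ hne
  classical
  haveI := Fintype.ofFinite G
  have hχc : IsCharacter G χ := Cfsg.Agent.Lib.Helper3.isCharacter_of_irr hχ
  obtain ⟨n', ρ, hρ⟩ := hχc
  have hM : ∀ g, χ g = (Cfsg.Agent.Lib.Helper74.matHom ρ (Pi.basisFun ℂ (Fin n')) g).trace :=
    fun g => by
      rw [← hρ]; exact Cfsg.Agent.Lib.Helper74.character_eq_trace ρ (Pi.basisFun ℂ (Fin n')) g
  obtain ⟨U, hUu, hUtr⟩ :=
    exists_unitary_hom (Cfsg.Agent.Lib.Helper74.matHom ρ (Pi.basisFun ℂ (Fin n')))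
  have hχU : ∀ g, (U g).trace = χ g := fun g => by rw [hM, hUtr]
  refine ⟨n', U, hUu, hχU, ?_⟩
  intro v hv
  have hc : (Nat.card G : ℂ) ≠ 0 := Cfsg.Agent.Lib.Helper3.card_ne_zero'
  -- the sum of the character values vanishes
  have hsum : ∑ g : G, χ g = 0 := by
    have h0 := Cfsg.Agent.Lib.Helper3.pair_irr_ne hχ
      (Cfsg.Agent.Lib.Helper74.isIrrCharacter_one) hne
    unfold Cfsg.Agent.Lib.Helper3.pair at h0
    simp only [mul_one] at h0
    rcases mul_eq_zero.mp h0 with h | h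
    · exact absurd (inv_eq_zero.mp h) hc
    · exact h
  obtain ⟨E, hE⟩ : ∃ E : Matrix (Fin n') (Fin n') ℂ, E = ∑ g : G, U g := ⟨_, rfl⟩
  have hUE : ∀ h : G, U h * E = E := by
    intro h
    rw [hE, Finset.mul_sum]
    refine Fintype.sum_equiv (Equiv.mulLeft h) _ _ ?_
    intro g
    rw [Equiv.coe_mulLeft, map_mul]
  have hinv : ∀ g : G, (U g)ᴴ = U g⁻¹ := by
    intro g
    have h1 : U g * U g⁻¹ = 1 := by rw [← map_mul, mul_inv_cancel, map_one]
    calc (U g)ᴴ = (U g)ᴴ * (U g * U g⁻¹) := by rw [h1, mul_one]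
      _ = ((U g)ᴴ * U g) * U g⁻¹ := by rw [mul_assoc]
      _ = U g⁻¹ := by rw [hUu, one_mul]
  have hEH : Eᴴ = E := by
    rw [hE, Matrix.conjTranspose_sum]
    refine Fintype.sum_equiv (Equiv.inv G) _ _ ?_
    intro g
    rw [hinv, Equiv.inv_apply]
  have hEE : E * E = (Nat.card G : ℂ) • E := by
    have h1 : E * E = ∑ g : G, U g * E := by
      conv_lhs => rw [hE]
      rw [Finset.sum_mul, ← hE]
    rw [h1]
    simp only [hUE]
    rw [Finset.sum_const, Finset.card_univ, Nat.card_eq_fintype_card, Nat.cast_smul_eq_nsmul]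
  have htr : E.trace = 0 := by
    rw [hE, Matrix.trace_sum]
    simp only [hχU]
    exact hsum
  have hfn : fn E = 0 := by
    have h1 := trace_conjTranspose_mul_self E
    rw [hEH, hEE, Matrix.trace_smul, htr, smul_zero] at h1
    exact_mod_cast h1.symm
  have hE0 : E = 0 := fn_eq_zero.mp hfn
  have hEv : E *ᵥ v = (Nat.card G : ℂ) • v := by
    rw [hE, Matrix.sum_mulVec]
    simp only [hv]
    rw [Finset.sum_const, Finset.card_univ, Nat.card_eq_fintype_card, Nat.cast_smul_eq_nsmul]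
  rw [hE0, Matrix.zero_mulVec] at hEv
  exact (smul_eq_zero.mp hEv.symm).resolve_left hc

end Cfsg.Agent.Lib.Helper8.BRA
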